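import Mathlib.LinearAlgebra.ExteriorPower.Basis
import Mathlib.RingTheory.Flat.EquationalCriterion

/-!
Exterior powers of flat modules are flat.
-/

namespace Groth.Agent.GrLib8.OmegaFlat

open Function

universe u

variable {R : Type u} [CommRing R] {M : Type u} [AddCommGroup M] [Module R M] {i : ℕ}

/-- Evaluate a formal combination of wedge symbols through a map `σ : M → G`. -/
noncomputable def wedgeVia {G : Type u} [AddCommGroup G] [Module R G] (σ : M → G) :
    ((Fin i → M) →₀ R) →ₗ[R] ⋀[R]^i G :=
  Finsupp.linearCombination R fun m => exteriorPower.ιMulti R i (σ ∘ m)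

/-- A formal combination vanishes in `⋀ G` as soon as `σ : M → G` respects finitely many linear
relations of `M`. -/
def FinitelyWitnessed (v : (Fin i → M) →₀ R) : Prop :=
  ∃ K : Finset (M →₀ R), (∀ k ∈ K, Finsupp.linearCombination R (id : M → M) k = 0) ∧
    ∀ (G : Type u) [AddCommGroup G] [Module R G] (σ : M → G),
      (∀ k ∈ K, Finsupp.linearCombination R σ k = 0) → wedgeVia σ v = 0

omit [AddCommGroup M] [Module R M] in
lemma comp_update {G : Type u} (σ : M → G) (m : Fin i → M) (a : Fin i) (x : M) :
    σ ∘ update m a x = update (σ ∘ m) a (σ x) :=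
  Function.comp_update σ m a x

/-- The relations of the standard presentation, as formal combinations. -/
noncomputable def relSym (r : exteriorPower.presentation.Rels R (Fin i) M) : (Fin i → M) →₀ R :=
  (exteriorPower.presentation.relations R (Fin i) M).relation r

lemma mem_span_relSym_iff (v : (Fin i → M) →₀ R) :
    v ∈ Submodule.span R (Set.range (relSym (R := R) (M := M) (i := i))) ↔
      Finsupp.linearCombination R (fun m : Fin i → M => exteriorPower.ιMulti R i m) v = 0 := by
  have := (exteriorPower.presentation R i M).toIsPresentation.ker_π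
  constructor
  · intro h
    exact LinearMap.mem_ker.1 (this.symm.le h)
  · intro h
    exact this.le (LinearMap.mem_ker.2 h)

theorem finitelyWitnessed_of_ker (v : (Fin i → M) →₀ R)
    (hv : Finsupp.linearCombination R (fun m : Fin i → M => exteriorPower.ιMulti R i m) v = 0) :
    FinitelyWitnessed v := by
  classical
  have hspan := (mem_span_relSym_iff v).2 hv
  induction hspan using Submodule.span_induction with
  | mem w hw =>
    obtain ⟨r, rfl⟩ := hw
    rcases r with ⟨m, a, x, y⟩ | ⟨m, a, c, x⟩ | ⟨m, a, b, hm, hab⟩
    · refine ⟨{Finsupp.single x 1 + Finsupp.single y 1 - Finsupp.single (x + y) 1}, ?_, ?_⟩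
      · intro k hk
        rw [Finset.mem_singleton] at hk
        subst hk
        simp
      · intro G _ _ σ h
        have hxy := h _ (Finset.mem_singleton_self _)
        simp only [map_sub, map_add, Finsupp.linearCombination_single, one_smul, sub_eq_zero] at hxy
        simp only [relSym, exteriorPower.presentation.relations_relation, wedgeVia, map_sub, map_add,
          Finsupp.linearCombination_single, one_smul, comp_update, ← hxy]
        rw [AlternatingMap.map_update_add, sub_self]
    · refine ⟨{Finsupp.single (c • x) 1 - Finsupp.single x c}, ?_, ?_⟩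
      · intro k hk
        rw [Finset.mem_singleton] at hk
        subst hk
        simp
      · intro G _ _ σ h
        have hxy := h _ (Finset.mem_singleton_self _)
        simp only [map_sub, Finsupp.linearCombination_single, one_smul, sub_eq_zero] at hxy
        simp only [relSym, exteriorPower.presentation.relations_relation, wedgeVia, map_sub, map_smul,
          Finsupp.linearCombination_single, one_smul, comp_update, hxy]
        rw [AlternatingMap.map_update_smul, sub_self]
    · refine ⟨∅, by simp, fun G _ _ σ _ => ?_⟩
      simp only [relSym, exteriorPower.presentation.relations_relation, wedgeVia,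
        Finsupp.linearCombination_single, one_smul]
      exact AlternatingMap.map_eq_zero_of_eq _ _ (congrArg σ hm) hab
  | zero => exact ⟨∅, by simp, fun _ _ _ _ _ => map_zero _⟩
  | add a b _ _ iha ihb =>
    obtain ⟨K, hK, hK'⟩ := iha ((mem_span_relSym_iff a).1 ‹_›)
    obtain ⟨L, hL, hL'⟩ := ihb ((mem_span_relSym_iff b).1 ‹_›)
    refine ⟨K ∪ L, ?_, fun G _ _ σ h => ?_⟩
    · intro k hk
      rcases Finset.mem_union.1 hk with hk | hk
      exacts [hK k hk, hL k hk]
    · rw [map_add, hK' G σ fun k hk => h k (Finset.mem_union_left _ hk),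
        hL' G σ fun k hk => h k (Finset.mem_union_right _ hk), add_zero]
  | smul c a _ iha =>
    obtain ⟨K, hK, hK'⟩ := iha ((mem_span_relSym_iff a).1 ‹_›)
    exact ⟨K, hK, fun G _ _ σ h => by rw [map_smul, hK' G σ h, smul_zero]⟩

variable (M) in
/-- An exterior power of a flat module is flat. -/
theorem flat_exteriorPower [Module.Flat R M] (i : ℕ) : Module.Flat R (⋀[R]^i M) := by
  classical
  refine Module.Flat.of_forall_isTrivialRelation fun {l f x} h => ?_
  -- lift the elements to formal combinations
  have hsurj : ∀ w : ⋀[R]^i M, ∃ u : (Fin i → M) →₀ R,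
      Finsupp.linearCombination R (fun m : Fin i → M => exteriorPower.ιMulti R i m) u = w := by
    intro w
    have := exteriorPower.ιMulti_span R i M
    exact (Finsupp.mem_span_range_iff_exists_finsupp.1 (this.ge (Submodule.mem_top : w ∈ ⊤)))
  choose u hu using hsurj
  obtain ⟨K, hK, hK'⟩ := finitelyWitnessed_of_ker (∑ j, f j • u (x j)) (by
    rw [map_sum]
    simp only [map_smul, hu, h])
  let S : Finset M := (K.biUnion Finsupp.support) ∪
    (Finset.univ.biUnion fun j => (u (x j)).support.biUnion fun m => Finset.univ.image m)
  -- a free module hitting all of `S`, with the relations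
  let q : (↥S →₀ R) →ₗ[R] M := Finsupp.linearCombination R Subtype.val
  let rel : (↥K →₀ R) →ₗ[R] (↥S →₀ R) := Finsupp.linearCombination R fun k : ↥K =>
    Finsupp.comapDomain Subtype.val k.1 Subtype.val_injective.injOn
  have hrelk : ∀ (G : Type u) [AddCommGroup G] [Module R G] (σ : M → G) (k : ↥K),
      Finsupp.linearCombination R (fun s : ↥S => σ s.1)
        (Finsupp.comapDomain Subtype.val k.1 Subtype.val_injective.injOn) =
      Finsupp.linearCombination R σ k.1 := by
    intro G _ _ σ k
    rw [show (fun s : ↥S => σ s.1) = σ ∘ Subtype.val from rfl, ← Finsupp.linearCombination_mapDomain,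
      Finsupp.mapDomain_comapDomain _ Subtype.val_injective]
    intro m hm
    exact ⟨⟨m, Finset.mem_union_left _ (Finset.mem_biUnion.2 ⟨k.1, k.2, hm⟩)⟩, rfl⟩
  have hq : q ∘ₗ rel = 0 := by
    refine Finsupp.lhom_ext fun k c => ?_
    simp only [rel, LinearMap.comp_apply, Finsupp.linearCombination_single, map_smul,
      LinearMap.zero_apply]
    rw [show q = Finsupp.linearCombination R (fun s : ↥S => (id : M → M) s.1) from rfl,
      hrelk M id k, hK k.1 k.2, smul_zero]
  obtain ⟨d, a, y, hqa, harel⟩ := Module.Flat.exists_factorization_of_comp_eq_zero_of_free hq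
  let σ : M → (Fin d →₀ R) := fun m => if hm : m ∈ S then a (Finsupp.single ⟨m, hm⟩ 1) else 0
  have hσS : (fun s : ↥S => σ s.1) = fun s => a (Finsupp.single s 1) := by
    funext s
    simp only [σ, dif_pos s.2]
  have hσK : ∀ k ∈ K, Finsupp.linearCombination R σ k = 0 := by
    intro k hk
    rw [← hrelk _ σ ⟨k, hk⟩, hσS]
    have := LinearMap.congr_fun harel (Finsupp.single ⟨k, hk⟩ 1)
    simp only [rel, LinearMap.comp_apply, Finsupp.linearCombination_single, one_smul,
      LinearMap.zero_apply] at this
    rw [← this]
    conv_rhs => rw [← Finsupp.sum_single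
      (Finsupp.comapDomain Subtype.val k Subtype.val_injective.injOn)]
    rw [map_finsuppSum, Finsupp.linearCombination_apply]
    exact Finsupp.sum_congr fun s _ => by rw [← map_smul, Finsupp.smul_single_one]
  have hzero := hK' _ σ hσK
  rw [map_sum] at hzero
  simp only [map_smul] at hzero
  have hpush : ∀ j, exteriorPower.map i y (wedgeVia σ (u (x j))) = x j := by
    intro j
    conv_rhs => rw [← hu (x j)]
    rw [wedgeVia, Finsupp.apply_linearCombination, Finsupp.linearCombination_apply,
      Finsupp.linearCombination_apply]
    refine Finsupp.sum_congr fun m hm => congrArg _ ?_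
    show exteriorPower.map i y (exteriorPower.ιMulti R i (σ ∘ m)) = exteriorPower.ιMulti R i m
    rw [exteriorPower.map_apply_ιMulti]
    congr 1
    funext b
    have hmS : m b ∈ S := Finset.mem_union_right _ (Finset.mem_biUnion.2 ⟨j, Finset.mem_univ _,
      Finset.mem_biUnion.2 ⟨m, hm, Finset.mem_image.2 ⟨b, Finset.mem_univ _, rfl⟩⟩⟩)
    simp only [Function.comp_apply, σ, dif_pos hmS]
    rw [← LinearMap.comp_apply, ← hqa]
    simp [q]
  -- trivial relation in the free module, pushed forward
  haveI : Module.Flat R (⋀[R]^i (Fin d →₀ R)) := inferInstance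
  obtain ⟨e, A, Y, hY, hA⟩ := Module.Flat.isTrivialRelation_of_sum_smul_eq_zero hzero
  refine ⟨e, A, fun t => exteriorPower.map i y (Y t), fun j => ?_, hA⟩
  conv_lhs => rw [← hpush j]
  rw [show wedgeVia σ (u (x j)) = _ from hY j, map_sum]
  simp only [map_smul]

end Groth.Agent.GrLib8.OmegaFlat
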