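import Mathlib.RingTheory.Kaehler.Basic
import Mathlib.RingTheory.Smooth.Basic
import Mathlib.RingTheory.Flat.EquationalCriterion
import Mathlib.RingTheory.Adjoin.FG
import Mathlib.RingTheory.FinitePresentation

/-!
Kähler differentials of an ind-smooth algebra over a Noetherian ring are flat.
-/

namespace Groth.Agent.GrLib8.OmegaFlat

open TensorProduct

universe u

variable {k : Type u} [CommRing k] {A : Type u} [CommRing A] [Algebra k A]

/-- Evaluate a formal combination of differentials through a map `ĝ : A → B`. -/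
noncomputable def diffVia {B : Type u} [CommRing B] [Algebra k B] [Algebra B A] (ĝ : A → B) :
    (A →₀ A) →ₗ[A] A ⊗[B] Ω[B⁄k] :=
  Finsupp.linearCombination A fun a => (1 : A) ⊗ₜ[B] KaehlerDifferential.D k B (ĝ a)

/-- A formal combination of differentials vanishes in `A ⊗ Ω_B` as soon as `ĝ` is an algebra map on a
big enough finitely generated subalgebra. -/
def FinitelyWitnessedD (k : Type u) [CommRing k] [Algebra k A] (v : A →₀ A) : Prop :=
  ∃ s : Finset A, ∀ (T : Subalgebra k A), (↑s ⊆ (T : Set A)) → ∀ (B : Type u) [CommRing B]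
    [Algebra k B] [Algebra B A] (g : ↥T →ₐ[k] B) (ĝ : A → B),
      (∀ a : ↥T, ĝ a = g a) → (∀ a : ↥T, algebraMap B A (g a) = a) → diffVia (k := k) ĝ v = 0

theorem finitelyWitnessedD_of_kerTotal (v : A →₀ A) (hv : v ∈ KaehlerDifferential.kerTotal k A) :
    FinitelyWitnessedD k v := by
  classical
  induction hv using Submodule.span_induction with
  | mem w hw =>
    rcases hw with (⟨⟨x, y⟩, rfl⟩ | ⟨⟨x, y⟩, rfl⟩) | ⟨c, rfl⟩
    · refine ⟨{x, y}, fun T hT B _ _ _ g ĝ hĝ _ => ?_⟩
      simp only [Finset.coe_insert, Finset.coe_singleton, Set.insert_subset_iff,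
        Set.singleton_subset_iff] at hT
      have hx : ĝ x = g ⟨x, hT.1⟩ := hĝ ⟨x, hT.1⟩
      have hy : ĝ y = g ⟨y, hT.2⟩ := hĝ ⟨y, hT.2⟩
      have hxy : ĝ (x + y) = g ⟨x, hT.1⟩ + g ⟨y, hT.2⟩ := by
        rw [← map_add]; exact hĝ (⟨x, hT.1⟩ + ⟨y, hT.2⟩)
      simp only [diffVia, map_sub, map_add, Finsupp.linearCombination_single, one_smul, hx, hy, hxy,
        TensorProduct.tmul_add, sub_self]
    · refine ⟨{x, y}, fun T hT B _ _ _ g ĝ hĝ hval => ?_⟩
      simp only [Finset.coe_insert, Finset.coe_singleton, Set.insert_subset_iff,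
        Set.singleton_subset_iff] at hT
      have hx : ĝ x = g ⟨x, hT.1⟩ := hĝ ⟨x, hT.1⟩
      have hy : ĝ y = g ⟨y, hT.2⟩ := hĝ ⟨y, hT.2⟩
      have hxy : ĝ (x * y) = g ⟨x, hT.1⟩ * g ⟨y, hT.2⟩ := by
        rw [← map_mul]; exact hĝ (⟨x, hT.1⟩ * ⟨y, hT.2⟩)
      have hax : algebraMap B A (g ⟨x, hT.1⟩) = x := hval ⟨x, hT.1⟩
      have hay : algebraMap B A (g ⟨y, hT.2⟩) = y := hval ⟨y, hT.2⟩
      simp only [diffVia, map_sub, map_add, Finsupp.linearCombination_single, one_smul, hx, hy, hxy,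
        Derivation.leibniz, TensorProduct.tmul_add]
      rw [← TensorProduct.smul_tmul, ← TensorProduct.smul_tmul (g ⟨y, hT.2⟩), Algebra.smul_def,
        Algebra.smul_def, hax, hay, mul_one, mul_one, TensorProduct.smul_tmul',
        TensorProduct.smul_tmul', smul_eq_mul, smul_eq_mul, mul_one, mul_one]
      abel
    · refine ⟨∅, fun T _ B _ _ _ g ĝ hĝ _ => ?_⟩
      have hc : ĝ (algebraMap k A c) = algebraMap k B c := by
        rw [← AlgHom.commutes g c]; exact hĝ (algebraMap k ↥T c)
      simp only [diffVia, Finsupp.linearCombination_single, one_smul, hc, Derivation.map_algebraMap,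
        TensorProduct.tmul_zero]
  | zero => exact ⟨∅, fun _ _ _ _ _ _ _ _ _ _ => map_zero _⟩
  | add a b _ _ iha ihb =>
    obtain ⟨s, hs⟩ := iha
    obtain ⟨t, ht⟩ := ihb
    refine ⟨s ∪ t, fun T hT B _ _ _ g ĝ h1 h2 => ?_⟩
    rw [Finset.coe_union, Set.union_subset_iff] at hT
    rw [map_add, hs T hT.1 B g ĝ h1 h2, ht T hT.2 B g ĝ h1 h2, add_zero]
  | smul c a _ iha =>
    obtain ⟨s, hs⟩ := iha
    exact ⟨s, fun T hT B _ _ _ g ĝ h1 h2 => by rw [map_smul, hs T hT B g ĝ h1 h2, smul_zero]⟩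

/-- Kähler differentials of an ind-smooth algebra over a Noetherian ring are flat. -/
theorem flat_kaehler_of_indSmooth [IsNoetherianRing k]
    (h : ∀ (T : Type u) [CommRing T] [Algebra k T] [Algebra.FinitePresentation k T] (f : T →ₐ[k] A),
      ∃ (B : Type u) (_ : CommRing B) (_ : Algebra k B), Algebra.Smooth k B ∧
        ∃ (g : T →ₐ[k] B) (φ : B →ₐ[k] A), φ.comp g = f) :
    Module.Flat A Ω[A⁄k] := by
  classical
  refine Module.Flat.of_forall_isTrivialRelation fun {l c x} hcx => ?_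
  have hsurj := KaehlerDifferential.linearCombination_surjective k A
  choose u hu using fun j => hsurj (x j)
  obtain ⟨s, hs⟩ := finitelyWitnessedD_of_kerTotal (k := k) (∑ j, c j • u j) (by
    rw [← KaehlerDifferential.kerTotal_eq, LinearMap.mem_ker, map_sum]
    simp only [map_smul, hu, hcx])
  let s' : Finset A := s ∪ Finset.univ.biUnion fun j => (u j).support
  let T : Subalgebra k A := Algebra.adjoin k (s' : Set A)
  have hT : (↑s' : Set A) ⊆ T := Algebra.subset_adjoin
  haveI : Algebra.FiniteType k ↥T :=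
    ⟨(Subalgebra.fg_top _).2 (Subalgebra.fg_adjoin_finset _)⟩
  haveI : Algebra.FinitePresentation k ↥T := Algebra.FinitePresentation.of_finiteType.1 ‹_›
  obtain ⟨B, _, _, hB, g, φ, hφ⟩ := h ↥T T.val
  letI : Algebra B A := φ.toRingHom.toAlgebra
  haveI : IsScalarTower k B A := IsScalarTower.of_algebraMap_eq' φ.comp_algebraMap.symm
  haveI := hB
  haveI : Module.Projective B Ω[B⁄k] := inferInstance
  haveI : Module.Flat A (A ⊗[B] Ω[B⁄k]) := inferInstance
  let ĝ : A → B := fun a => if ha : a ∈ T then g ⟨a, ha⟩ else 0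
  have h1 : ∀ a : ↥T, ĝ a = g a := fun a => by simp only [ĝ, dif_pos a.2]
  have h2 : ∀ a : ↥T, algebraMap B A (g a) = a := fun a => AlgHom.congr_fun hφ a
  have hzero := hs T (fun a ha => hT (Finset.mem_union_left _ ha)) B g ĝ h1 h2
  rw [map_sum] at hzero
  simp only [map_smul] at hzero
  obtain ⟨e, α, Y, hY, hα⟩ := Module.Flat.isTrivialRelation_of_sum_smul_eq_zero hzero
  refine ⟨e, α, fun t => KaehlerDifferential.mapBaseChange k B A (Y t), fun j => ?_, hα⟩
  have hpush : KaehlerDifferential.mapBaseChange k B A (diffVia (k := k) ĝ (u j)) = x j := by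
    conv_rhs => rw [← hu j]
    rw [diffVia, Finsupp.apply_linearCombination, Finsupp.linearCombination_apply,
      Finsupp.linearCombination_apply]
    refine Finsupp.sum_congr fun a ha => congrArg _ ?_
    have haT : a ∈ T := hT (Finset.mem_union_right _ (Finset.mem_biUnion.2 ⟨j, Finset.mem_univ _, ha⟩))
    show KaehlerDifferential.mapBaseChange k B A ((1 : A) ⊗ₜ[B] KaehlerDifferential.D k B (ĝ a)) = _
    rw [KaehlerDifferential.mapBaseChange_tmul, one_smul, KaehlerDifferential.map_D,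
      h1 ⟨a, haT⟩, h2 ⟨a, haT⟩]
  conv_lhs => rw [← hpush]
  rw [show diffVia (k := k) ĝ (u j) = _ from hY j, map_sum]
  simp only [map_smul]

/-- Differentials relative to a quotient of the base are the same. -/
theorem flat_kaehler_of_surjective (k₀ : Type*) [CommRing k₀] [Algebra k₀ k] [Algebra k₀ A]
    [IsScalarTower k₀ k A] (hs : Function.Surjective (algebraMap k₀ k)) [Module.Flat A Ω[A⁄k]] :
    Module.Flat A Ω[A⁄k₀] := by
  haveI : Subsingleton Ω[k⁄k₀] := KaehlerDifferential.subsingleton_of_surjective k₀ k hs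
  have hsurj := KaehlerDifferential.map_surjective k₀ k A
  have hinj : Function.Injective (KaehlerDifferential.map k₀ k A A) := by
    rw [← LinearMap.ker_eq_bot, LinearMap.ker_eq_bot']
    intro z hz
    obtain ⟨w, rfl⟩ := (KaehlerDifferential.exact_mapBaseChange_map k₀ k A z).1 hz
    rw [Subsingleton.elim w 0, map_zero]
  exact Module.Flat.of_linearEquiv (LinearEquiv.ofBijective _ ⟨hinj, hsurj⟩)

end Groth.Agent.GrLib8.OmegaFlat
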